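import Groth.Agent.CycRoot27.LineBundle

/-!
# Connectedness of the root cover
-/

set_option autoImplicit false
set_option backward.isDefEq.respectTransparency.types false

universe u

open CategoryTheory CategoryTheory.Limits AlgebraicGeometry TopologicalSpace Opposite Polynomial
open Groth.Agent.Coherent Groth.Agent.PicLib Groth.Agent.AmpleLib

namespace Groth.Agent.CycRoot27

theorem exists_coeff' {R : Type u} [CommRing R] {d : ℕ} (hd : 0 < d) (f : R) (x : Bd d f) :
    ∃! e : Fin d → R, ∑ i, AdjoinRoot.of _ (e i) * AdjoinRoot.root _ ^ (i : ℕ) = x := by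
  rcases subsingleton_or_nontrivial R with hR | hR
  · have : Subsingleton (Bd d f) := Module.subsingleton R _
    exact ⟨fun _ => 0, Subsingleton.elim _ _, fun e _ => Subsingleton.elim _ _⟩
  · exact exists_coeff hd f x

/-- A clopen decomposition is cut out by an idempotent. -/
theorem exists_idempotent {T : Scheme.{u}} {A B : T.Opens} (hd : A ⊓ B = ⊥) (hc : A ⊔ B = ⊤) :
    ∃ r : Γ(T, ⊤), r * r = r ∧ T.basicOpen r = A := by
  let W : ULift.{u} Bool → T.Opens := fun b => if b.down then A else B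
  have hcov : (⊤ : T.Opens) ≤ iSup W := fun z _ => by
    rcases (show z ∈ A ⊔ B from hc.ge trivial) with h | h
    · exact Opens.mem_iSup.2 ⟨⟨true⟩, h⟩
    · exact Opens.mem_iSup.2 ⟨⟨false⟩, h⟩
  have hbot : ∀ V : T.Opens, V = ⊥ → Subsingleton Γ(T, V) := fun V hV => by
    subst hV
    exact CommRingCat.subsingleton_of_isTerminal T.sheaf.isTerminalOfEmpty
  obtain ⟨r, hr, huniq⟩ := TopCat.Sheaf.existsUnique_gluing' T.sheaf
    W ⊤ (fun b => homOfLE le_top) hcov
    (fun b => match b with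
      | ⟨true⟩ => (1 : Γ(T, A))
      | ⟨false⟩ => (0 : Γ(T, B)))
    (fun a b => by
      rcases a with ⟨_ | _⟩ <;> rcases b with ⟨_ | _⟩
      · rfl
      · exact (hbot _ (eq_bot_iff.2 fun z (hz : z ∈ B ⊓ A) => hd.le (show z ∈ A ⊓ B from ⟨hz.2, hz.1⟩))).elim _ _
      · exact (hbot _ hd).elim _ _
      · rfl)
  have hB : PicLib.res (le_top : B ≤ ⊤) r = 0 := hr ⟨false⟩
  have hA : PicLib.res (le_top : A ≤ ⊤) r = 1 := hr ⟨true⟩
  refine ⟨r, huniq (r * r) fun b => ?_, le_antisymm (fun z hz => ?_) fun z hz => ?_⟩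
  · rcases b with ⟨_ | _⟩
    · show PicLib.res (le_top : B ≤ ⊤) (r * r) = (0 : Γ(T, B))
      exact (map_mul (PicLib.res (le_top : B ≤ ⊤)) r r).trans ((congrArg₂ (· * ·) hB hB).trans (mul_zero _))
    · show PicLib.res (le_top : A ≤ ⊤) (r * r) = (1 : Γ(T, A))
      exact (map_mul (PicLib.res (le_top : A ≤ ⊤)) r r).trans ((congrArg₂ (· * ·) hA hA).trans (_root_.mul_one _))
  · rcases (show z ∈ A ⊔ B from hc.ge trivial) with h | h
    · exact h
    · exfalso
      have : z ∈ T.basicOpen (PicLib.res (le_top : B ≤ ⊤) r) := by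
        rw [show T.basicOpen (PicLib.res (le_top : B ≤ ⊤) r) = B ⊓ T.basicOpen r from Scheme.basicOpen_res T r _]
        exact ⟨h, hz⟩
      rw [hB, Scheme.basicOpen_zero] at this
      exact this.elim
  · have : z ∈ T.basicOpen (PicLib.res (le_top : A ≤ ⊤) r) := by
      rw [hA, Scheme.basicOpen_of_isUnit T isUnit_one]
      exact hz
    rw [show T.basicOpen (PicLib.res (le_top : A ≤ ⊤) r) = A ⊓ T.basicOpen r from Scheme.basicOpen_res T r _] at this
    exact this.2

namespace RootData

variable {X : Scheme.{u}} {d : ℕ} (D : RootData X d) (hd : 0 < d)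

/-- The coordinates of a function on the cover over a chart. -/
noncomputable def coeff (x : Γ(D.total, ⊤)) (j : D.J) : Fin d → Γ(X, D.V j) :=
  (exists_coeff' hd (D.f j) (D.secHom j (PicLib.res le_top x))).exists.choose

theorem coeff_spec (x : Γ(D.total, ⊤)) (j : D.J) :
    ∑ i, AdjoinRoot.of _ (D.coeff hd x j i) * AdjoinRoot.root _ ^ (i : ℕ) =
      (D.secHom j (PicLib.res le_top x) : Bd d (D.f j)) :=
  (exists_coeff' hd (D.f j) (D.secHom j (PicLib.res le_top x))).exists.choose_spec

theorem coeff_eq (x : Γ(D.total, ⊤)) (j : D.J) (e : Fin d → Γ(X, D.V j))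
    (h : ∑ i, AdjoinRoot.of _ (e i) * AdjoinRoot.root _ ^ (i : ℕ) =
      (D.secHom j (PicLib.res le_top x) : Bd d (D.f j))) : D.coeff hd x j = e :=
  (exists_coeff' hd (D.f j) _).unique (D.coeff_spec hd x j) h

theorem coeff_res (x : Γ(D.total, ⊤)) {i j : D.J} (h : i ≤ j) (l : Fin d) :
    PicLib.res (D.mono h) (D.coeff hd x j l) * (D.tw h : Γ(X, D.V i)) ^ (l : ℕ) = D.coeff hd x i l := by
  refine (congrFun (D.coeff_eq hd x i
    (fun l => PicLib.res (D.mono h) (D.coeff hd x j l) * (D.tw h : Γ(X, D.V i)) ^ (l : ℕ)) ?_) l).symm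
  have h1 := D.secHom_natural h (PicLib.res le_top x)
  have e : resF (D.toBase.preimage_mono (D.mono h)) (PicLib.res le_top x) = PicLib.res le_top x :=
    PicLib.res_res _ _ _
  rw [e] at h1
  rw [h1, ← D.coeff_spec hd x j]
  refine Eq.trans ?_ (map_sum (twist (resF (D.mono h)) (D.tw h : Γ(X, D.V i)) (D.f_eq h)) _ _).symm
  refine Finset.sum_congr rfl fun l _ => ?_
  rw [map_mul, map_pow, map_mul, map_pow, twist_of, twist_root, mul_pow, mul_assoc]

theorem exists_glue_fun (c : ∀ j, Γ(X, D.V j))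
    (hc : ∀ {i j} (h : i ≤ j), PicLib.res (D.mono h) (c j) = c i) :
    ∃ g : Γ(X, ⊤), ∀ j, PicLib.res le_top g = c j := by
  have hcov : (⊤ : X.Opens) ≤ iSup D.V := fun x _ => Opens.mem_iSup.2 (D.cover x)
  obtain ⟨g, hg, -⟩ := TopCat.Sheaf.existsUnique_gluing' X.sheaf D.V ⊤ (fun j => homOfLE le_top) hcov c
    fun a b => by
      refine TopCat.Sheaf.eq_of_locally_eq' X.sheaf
        (fun k : {k : D.J // k ≤ a ∧ k ≤ b} => D.V k.1) _
        (fun k => homOfLE (le_inf (D.mono k.2.1) (D.mono k.2.2))) (fun x hx => ?_) _ _ fun k => ?_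
      · obtain ⟨k, ha, hb, hk⟩ := D.directed a b x hx.1 hx.2
        exact Opens.mem_iSup.2 ⟨⟨k, ha, hb⟩, hk⟩
      · show PicLib.res _ (PicLib.res _ (c a)) = PicLib.res _ (PicLib.res _ (c b))
        rw [PicLib.res_res, PicLib.res_res]
        exact (hc k.2.1).trans (hc k.2.2).symm
  exact ⟨g, hg⟩

theorem eq_of_secHom {x y : Γ(D.total, ⊤)}
    (h : ∀ j, D.secHom j (PicLib.res le_top x) = D.secHom j (PicLib.res le_top y)) : x = y :=
  TopCat.Sheaf.eq_of_locally_eq' D.total.sheaf (fun j => D.toBase ⁻¹ᵁ D.V j) ⊤ (fun j => homOfLE le_top)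
    (fun z _ => Opens.mem_iSup.2 (D.cover (D.toBase z))) x y fun j => (D.bijective_secHom j).1 (h j)

end RootData

variable {X : Scheme.{u}} [IsIntegral X] {L : X.Modules} (hL : PicF.IsInvertible L) {d : ℕ}
  (e : CohB1.tensorPow L d ≅ Coh.structureModule X) (hd : 0 < d)

include hd in
theorem coeff_eq_zero (hfield : IsField (Γ(X, ⊤) : Type u))
    (hmin : ∀ i : ℕ, 0 < i → i < d → IsEmpty (CohB1.tensorPow L i ≅ Coh.structureModule X))
    (x : Γ((rootData hL e).total, ⊤)) (l : Fin d) (hl : 0 < (l : ℕ)) (j : (rootData hL e).J) :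
    (rootData hL e).coeff hd x j l = 0 := by
  let D := rootData hL e
  obtain ⟨h, hh⟩ := D.exists_glue_fun (fun j => D.coeff hd x j l ^ d * D.f j ^ (l : ℕ)) fun {i j} hij => by
    rw [map_mul, map_pow, map_pow, ← D.coeff_res hd x hij l,
      show PicLib.res (D.mono hij) (D.f j) = (D.tw hij : Γ(X, D.V i)) ^ d * D.f i from D.f_eq hij,
      mul_pow, mul_pow, ← pow_mul, ← pow_mul, mul_comm d (l : ℕ)]
    ring
  by_cases h0 : h = 0
  · rcases eq_or_ne (D.V j : Set X) ∅ with hemp | hne
    · have : Subsingleton Γ(X, D.V j) := by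
        have hb : D.V j = ⊥ := SetLike.coe_injective hemp
        rw [hb]
        exact CommRingCat.subsingleton_of_isTerminal X.sheaf.isTerminalOfEmpty
      exact Subsingleton.elim _ _
    have := hh j
    rw [h0, map_zero] at this
    have hu : IsUnit (D.f j ^ (l : ℕ)) := (isUnit_ff e j).pow _
    exact IsReduced.eq_zero _ ⟨d, hu.mul_left_eq_zero.1 this.symm⟩
  · exfalso
    have hu : IsUnit h := by
      obtain ⟨b, hb⟩ := hfield.mul_inv_cancel h0
      exact IsUnit.of_mul_eq_one b hb
    have hcu : ∀ j, IsUnit (D.coeff hd x j l) := fun j => by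
      have h1 : IsUnit (D.coeff hd x j l ^ d * D.f j ^ (l : ℕ)) := by rw [← hh j]; exact hu.map _
      exact (isUnit_pow_iff hd.ne').1 (IsUnit.mul_iff.1 h1).1
    refine (hmin l hl l.2).elim (Classical.choice (iso_of_units (CohB1.tensorPow L (l : ℕ))
      (fun i j : GenIdx L => i.1 ≤ j.1) (fun j => j.1) (fun h => h)
      (fun y => D.cover y) (fun i j y hi hj => D.directed i j y hi hj)
      (fun j => powSec (gg j) l) (fun j => isGen_powSec (isGen_gg j) l)
      (fun j => ((hcu j).unit⁻¹ : (Γ(X, j.1))ˣ)) (fun j => Units.isUnit _) ?_))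
    intro i j hij
    refine ⟨(twU hij : Γ(X, i.1)) ^ (l : ℕ), by rw [resM_powSec, twU_spec hij, powSec_smul], ?_⟩
    have h1 : PicLib.res hij (D.coeff hd x j l) * (twU hij : Γ(X, i.1)) ^ (l : ℕ) = D.coeff hd x i l :=
      D.coeff_res hd x (i := i) (j := j) hij l
    have h2 : PicLib.res hij (D.coeff hd x j l) * PicLib.res hij (((hcu j).unit⁻¹ : (Γ(X, j.1))ˣ) : Γ(X, j.1)) = 1 := by
      exact (map_mul (PicLib.res hij) _ _).symm.trans ((congrArg (PicLib.res hij) (hcu j).mul_val_inv).trans (map_one _))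
    refine (((hcu j).map (PicLib.res hij)).mul_left_cancel ?_)
    refine h2.trans ?_
    exact ((mul_assoc _ _ _).symm.trans ((congrArg (fun z : Γ(X, i.1) => z * (((hcu i).unit⁻¹ : (Γ(X, i.1))ˣ) : Γ(X, i.1))) h1).trans (hcu i).mul_val_inv)).symm

include hd in
theorem connectedSpace_total (hfield : IsField (Γ(X, ⊤) : Type u))
    (hmin : ∀ i : ℕ, 0 < i → i < d → IsEmpty (CohB1.tensorPow L i ≅ Coh.structureModule X)) :
    ConnectedSpace ↥(rootData hL e).total := by
  let D := rootData hL e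
  have := D.surjective_toBase hd
  have : Nonempty ↥D.total := ⟨(D.toBase.surjective (genericPoint ↥X)).choose⟩
  have hid : ∀ x : Γ(D.total, ⊤), x * x = x → x = 0 ∨ x = 1 := by
    intro x hx
    have hsum : ∀ j, (D.secHom j (PicLib.res le_top x) : Bd d (D.f j)) =
        AdjoinRoot.of _ (D.coeff hd x j ⟨0, hd⟩) := by
      intro j
      rw [← D.coeff_spec hd x j, Finset.sum_eq_single ⟨0, hd⟩]
      · rw [pow_zero, _root_.mul_one]
      · intro l _ hl
        rw [coeff_eq_zero hL e hd hfield hmin x l (Nat.pos_of_ne_zero fun h => hl (Fin.ext h)) j, map_zero, zero_mul]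
      · exact fun h => absurd (Finset.mem_univ _) h
    obtain ⟨g, hg⟩ := D.exists_glue_fun (fun j => D.coeff hd x j ⟨0, hd⟩) fun {i j} hij => by
      have := D.coeff_res hd x hij ⟨0, hd⟩
      rwa [pow_zero, _root_.mul_one] at this
    have hgx : D.toBase.app ⊤ g = x := D.eq_of_secHom fun j => by
      rw [hsum, ← hg, ← D.secHom_toBase_app]
      refine congrArg (D.secHom j) ?_
      exact (ConcreteCategory.congr_hom (D.toBase.naturality (homOfLE (le_top : D.V j ≤ ⊤)).op) g).symm
    have hinj : Function.Injective (D.toBase.app ⊤) := by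
      intro a b hab
      refine TopCat.Sheaf.eq_of_locally_eq' X.sheaf D.V ⊤ (fun j => homOfLE le_top)
        (fun z _ => Opens.mem_iSup.2 (D.cover z)) a b fun j => ?_
      have h1 := congrArg (fun z => (D.secHom j (PicLib.res (le_top : D.toBase ⁻¹ᵁ D.V j ≤ ⊤) z) : Bd d (D.f j))) hab
      have key : ∀ a : Γ(X, ⊤), (D.secHom j (PicLib.res (le_top : D.toBase ⁻¹ᵁ D.V j ≤ ⊤) (D.toBase.app ⊤ a)) :
          Bd d (D.f j)) = AdjoinRoot.of _ (PicLib.res le_top a) := fun a => by
        rw [← D.secHom_toBase_app]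
        refine congrArg (D.secHom j) ?_
        exact (ConcreteCategory.congr_hom (D.toBase.naturality (homOfLE (le_top : D.V j ≤ ⊤)).op) a).symm
      simp only [key] at h1
      have hu := exists_coeff' hd (D.f j) (AdjoinRoot.of _ (PicLib.res le_top a))
      have hval : ∀ c : Γ(X, D.V j), ∑ i : Fin d,
          AdjoinRoot.of ((Polynomial.X : Γ(X, D.V j)[X]) ^ d - C (D.f j)) (if i = ⟨0, hd⟩ then c else 0) *
            AdjoinRoot.root _ ^ (i : ℕ) = AdjoinRoot.of _ c := fun c => by
        rw [Finset.sum_eq_single ⟨0, hd⟩ (fun i _ hi => by rw [if_neg hi, map_zero, zero_mul])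
          (fun h => absurd (Finset.mem_univ _) h), if_pos rfl, pow_zero, _root_.mul_one]
      have := congrFun (hu.unique (hval _) ((hval (PicLib.res le_top b)).trans h1.symm)) ⟨0, hd⟩
      rwa [if_pos rfl, if_pos rfl] at this
    have hgi : g * g = g := hinj ((map_mul (D.toBase.app ⊤).hom g g).trans ((congrArg₂ (fun a b : Γ(D.total, ⊤) => a * b) hgx hgx).trans (hx.trans hgx.symm)))
    rw [← hgx]
    by_cases hg0 : g = 0
    · exact Or.inl (by rw [hg0]; exact map_zero (D.toBase.app ⊤).hom)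
    · obtain ⟨b, hb⟩ := hfield.mul_inv_cancel hg0
      refine Or.inr ?_
      rw [show g = 1 by calc g = g * g * b := by rw [mul_assoc, hb, _root_.mul_one]
                           _ = 1 := by rw [hgi, hb]]
      exact map_one (D.toBase.app ⊤).hom
  have : PreconnectedSpace ↥D.total := preconnectedSpace_iff_clopen.2 fun s hs => by
    let A : D.total.Opens := ⟨s, hs.isOpen⟩
    let B : D.total.Opens := ⟨sᶜ, hs.compl.isOpen⟩
    have hd' : A ⊓ B = ⊥ := SetLike.coe_injective (Set.inter_compl_self s)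
    have hc' : A ⊔ B = ⊤ := SetLike.coe_injective (Set.union_compl_self s)
    obtain ⟨r', hr', hAB⟩ := exists_idempotent hd' hc'
    rcases hid r' hr' with rfl | rfl
    · left
      rw [Scheme.basicOpen_zero] at hAB
      exact congrArg (fun O : D.total.Opens => (O : Set D.total)) hAB.symm
    · right
      rw [Scheme.basicOpen_of_isUnit _ isUnit_one] at hAB
      exact congrArg (fun O : D.total.Opens => (O : Set D.total)) hAB.symm
  exact { toPreconnectedSpace := this, toNonempty := inferInstance }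

end Groth.Agent.CycRoot27
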