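import Groth.Agent.CycRoot27.Ring
import Mathlib.AlgebraicGeometry.RelativeGluing

/-!
# Gluing `d`-th root covers
-/

set_option autoImplicit false
set_option backward.isDefEq.respectTransparency.types false

universe u

open Polynomial CategoryTheory CategoryTheory.Limits AlgebraicGeometry TopologicalSpace Opposite

namespace Groth.Agent.CycRoot27

/-- Restriction of functions. -/
noncomputable abbrev resF {X : Scheme.{u}} {U V : X.Opens} (h : V ≤ U) : Γ(X, U) →+* Γ(X, V) :=
  (X.presheaf.map (homOfLE h).op).hom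

theorem resF_resF {X : Scheme.{u}} {U V W : X.Opens} (h : V ≤ U) (h' : W ≤ V) :
    (resF h').comp (resF h) = resF (h'.trans h) := by
  rw [← CommRingCat.hom_comp, ← Functor.map_comp]
  rfl

theorem resF_self {X : Scheme.{u}} {U : X.Opens} (h : U ≤ U) : resF h = RingHom.id Γ(X, U) := by
  show (X.presheaf.map (𝟙 (op U))).hom = _
  rw [X.presheaf.map_id]
  rfl

/-- Local functions `f` differing by `d`-th powers of compatible units on a directed affine basis. -/
structure RootData (X : Scheme.{u}) (d : ℕ) where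
  J : Type u
  le : J → J → Prop
  le_refl : ∀ i, le i i
  le_trans : ∀ {i j k}, le i j → le j k → le i k
  V : J → X.Opens
  mono : ∀ {i j}, le i j → V i ≤ V j
  affine : ∀ j, IsAffineOpen (V j)
  cover : ∀ x : X, ∃ j, x ∈ V j
  directed : ∀ i j (x : X), x ∈ V i → x ∈ V j → ∃ k, le k i ∧ le k j ∧ x ∈ V k
  f : ∀ j, Γ(X, V j)
  tw : ∀ {i j}, le i j → (Γ(X, V i))ˣ
  f_eq : ∀ {i j} (h : le i j), resF (mono h) (f j) = (tw h : Γ(X, V i)) ^ d * f i
  tw_self : ∀ i, tw (le_refl i) = 1
  tw_trans : ∀ {i j k} (h : le i j) (h' : le j k),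
    resF (mono h) (tw h' : Γ(X, V j)) * tw h = (tw (le_trans h h') : Γ(X, V i))

namespace RootData

variable {X : Scheme.{u}} {d : ℕ} (D : RootData X d)

instance : Preorder D.J where
  le := D.le
  le_refl := D.le_refl
  le_trans _ _ _ := D.le_trans

/-- The ring over a chart. -/
noncomputable abbrev B (j : D.J) : CommRingCat.{u} := CommRingCat.of (Bd d (D.f j))

/-- The class of `t` over a chart. -/
noncomputable def root (j : D.J) : D.B j := AdjoinRoot.root _

/-- Transition maps. -/
noncomputable def res {i j : D.J} (h : i ≤ j) : D.B j ⟶ D.B i :=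
  CommRingCat.ofHom (twist (resF (D.mono h)) (D.tw h : Γ(X, D.V i)) (D.f_eq h))

theorem res_self (i : D.J) : D.res (_root_.le_refl i) = 𝟙 _ := by
  refine CommRingCat.hom_ext (hom_ext (fun x => ?_) ?_)
  · show twist (resF (D.mono (D.le_refl i))) (D.tw (D.le_refl i) : Γ(X, D.V i)) (D.f_eq (D.le_refl i)) _ = _
    rw [twist_of, resF_self]
    rfl
  · show twist (resF (D.mono (D.le_refl i))) (D.tw (D.le_refl i) : Γ(X, D.V i)) (D.f_eq (D.le_refl i)) _ = _
    rw [twist_root, D.tw_self, Units.val_one, map_one, one_mul]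
    rfl

theorem res_res {i j k : D.J} (h : i ≤ j) (h' : j ≤ k) : D.res h' ≫ D.res h = D.res (_root_.le_trans h h') :=
  CommRingCat.hom_ext (twist_comp _ _ (D.f_eq h') _ _ (D.f_eq h) _ _ (D.f_eq (D.le_trans h h'))
    (resF_resF _ _) (D.tw_trans h h'))

/-- The open cover. -/
@[simps]
def cov : X.OpenCover where
  I₀ := D.J
  X j := (D.V j).toScheme
  f j := (D.V j).ι
  mem₀ := by
    rw [Scheme.presieve₀_mem_precoverage_iff]
    refine ⟨fun x => ?_, inferInstance⟩
    obtain ⟨j, hj⟩ := D.cover x
    exact ⟨j, ⟨x, hj⟩, rfl⟩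

instance : Preorder D.cov.I₀ := inferInstanceAs (Preorder D.J)

noncomputable instance : D.cov.LocallyDirected where
  trans f := X.homOfLE (D.mono f.le)
  trans_id i := X.homOfLE_rfl _
  trans_comp f g := (X.homOfLE_homOfLE _ _).symm
  w f := X.homOfLE_ι _
  directed {i j} x := by
    let a := (pullback.fst _ _ ≫ (D.V i).ι) x
    have hai : a ∈ D.V i := (pullback.fst (D.V i).ι (D.V j).ι x).2
    have haj : a ∈ D.V j := by
      show ((pullback.fst (D.V i).ι (D.V j).ι ≫ (D.V i).ι) x : X) ∈ D.V j
      rw [pullback.condition]; exact (pullback.snd (D.V i).ι (D.V j).ι x).2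
    obtain ⟨k, hki, hkj, hak⟩ := D.directed i j a hai haj
    refine ⟨k, homOfLE hki, homOfLE hkj, ⟨a, hak⟩, ?_⟩
    apply (pullback.fst _ _ ≫ (D.V i).ι).isOpenEmbedding.injective
    change (pullback.lift (X.homOfLE (D.mono hki)) (X.homOfLE (D.mono hkj)) _ ≫
      pullback.fst (D.V i).ι (D.V j).ι ≫ (D.V i).ι) _ = _
    rw [pullback.lift_fst_assoc, Scheme.homOfLE_ι]
    rfl
  property_trans f := inferInstanceAs (IsOpenImmersion (X.homOfLE _))

/-- The charts as a functor. -/
noncomputable def chartFunctor : D.cov.I₀ ⥤ Scheme.{u} where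
  obj j := Spec (D.B j)
  map h := Spec.map (D.res h.le)
  map_id j := (congrArg Spec.map (D.res_self j)).trans (Spec.map_id _)
  map_comp h h' := ((congrArg Spec.map (D.res_res h.le h'.le).symm).trans (Spec.map_comp _ _))

/-- The structure map of a chart. -/
noncomputable def chartMap (j : D.J) : Spec (D.B j) ⟶ (D.V j).toScheme :=
  Spec.map (CommRingCat.ofHom (AdjoinRoot.of ((Polynomial.X : Γ(X, D.V j)[X]) ^ d - C (D.f j)))) ≫
    (D.affine j).isoSpec.inv

theorem isPullback_chart {i j : D.J} (h : i ≤ j) :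
    IsPullback (Spec.map (D.res h)) (D.chartMap i) (D.chartMap j) (X.homOfLE (D.mono h)) := by
  have hp := isPullback_SpecMap_of_isPushout _ _ _ _ (isPushout_twist (resF (D.mono h)) (D.tw h) (D.f_eq h))
  refine hp.flip.paste_vert (IsPullback.of_vert_isIso ⟨?_⟩)
  rw [← cancel_mono (D.V j).ι, Category.assoc, Category.assoc, IsAffineOpen.isoSpec_inv_ι,
    Scheme.homOfLE_ι, IsAffineOpen.isoSpec_inv_ι]
  exact (D.affine j).map_fromSpec (D.affine i) (homOfLE (D.mono h)).op

/-- The relative gluing datum. -/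
noncomputable def gdata : D.cov.RelativeGluingData where
  functor := D.chartFunctor
  natTrans :=
    { app := fun j => D.chartMap j
      naturality := fun i j h => (D.isPullback_chart h.le).w }
  equifibered := fun i j h => D.isPullback_chart h.le

/-- The cover `X'`. -/
noncomputable def total : Scheme.{u} := D.gdata.glued

/-- Its structure map. -/
noncomputable def toBase : D.total ⟶ X := D.gdata.toBase

/-- The inclusion of a chart. -/
noncomputable def chart (j : D.J) : Spec (D.B j) ⟶ D.total := colimit.ι D.gdata.functor j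

instance (j : D.J) : IsOpenImmersion (D.chart j) := D.gdata.cover.map_prop j

theorem chart_res {i j : D.J} (h : i ≤ j) : Spec.map (D.res h) ≫ D.chart j = D.chart i :=
  colimit.w D.gdata.functor (homOfLE h : (i : D.cov.I₀) ⟶ j)

theorem chart_toBase (j : D.J) : D.chart j ≫ D.toBase = D.chartMap j ≫ (D.V j).ι :=
  D.gdata.ι_toBase j

theorem isPullback_toBase (j : D.J) : IsPullback (D.chartMap j) (D.chart j) (D.V j).ι D.toBase :=
  D.gdata.isPullback_natTrans_ι_toBase j

theorem preimage_toBase (j : D.J) : D.toBase ⁻¹ᵁ D.V j = (D.chart j).opensRange := by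
  have h : D.toBase ⁻¹ᵁ ((D.V j).ι).opensRange = (D.chart j).opensRange :=
    D.gdata.toBase_preimage_eq_opensRange_ι j
  rwa [Scheme.Opens.opensRange_ι] at h

theorem exists_chart (z : D.total) : ∃ j w, D.chart j w = z := by
  obtain ⟨j, hj⟩ := D.cover (D.toBase z)
  have h : z ∈ D.toBase ⁻¹ᵁ D.V j := hj
  rw [preimage_toBase] at h
  exact ⟨j, h⟩

end RootData

end Groth.Agent.CycRoot27
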