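import Groth.Agent.CycRoot27.LineBundle
import Groth.Agent.HenselLib.EtaleReduced
import Mathlib.RingTheory.TensorProduct.IncludeLeftSubRight
import Mathlib.RingTheory.Flat.FaithfullyFlat.Algebra
import Mathlib.Algebra.CharP.Lemmas

/-!
# An invertible module killed by `p` and by an etale cover with `p`-th roots, in characteristic `p`
-/

set_option autoImplicit false
set_option backward.isDefEq.respectTransparency.types false

universe u

open CategoryTheory CategoryTheory.Limits AlgebraicGeometry TopologicalSpace Opposite TensorProduct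
open Groth.Agent.Coherent Groth.Agent.PicLib Groth.Agent.AmpleLib

namespace Groth.Agent.CycRoot27

theorem eq_of_pow_prime {R : Type u} [CommRing R] [IsReduced R] {p : ℕ} (hp : p.Prime) (h0 : (p : R) = 0)
    {x y : R} (h : x ^ p = y ^ p) : x = y := by
  obtain ⟨r, hr⟩ := exists_add_pow_prime_eq hp (x - y) y
  rw [sub_add_cancel, h0, zero_mul, zero_mul, zero_mul, add_zero, h] at hr
  refine sub_eq_zero.1 (IsReduced.eq_zero _ ⟨p, ?_⟩)
  exact add_eq_right.1 hr.symm

/-- A `p`-th root in a faithfully flat etale algebra over a reduced ring comes from below. -/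
theorem mem_range_of_pow_mem {A B : Type u} [CommRing A] [CommRing B] [Algebra A B] [IsReduced A]
    [Algebra.Etale A B] [Module.FaithfullyFlat A B] {p : ℕ} (hp : p.Prime) (h0 : (p : A) = 0)
    {σ : B} {a : A} (h : σ ^ p = algebraMap A B a) : ∃ r, algebraMap A B r = σ := by
  have : IsReduced B := Groth.Agent.HenselLib.isReduced_of_etale A B
  have : Algebra.Etale B (B ⊗[A] B) := inferInstance
  have : IsReduced (B ⊗[A] B) := Groth.Agent.HenselLib.isReduced_of_etale B (B ⊗[A] B)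
  have hE : σ ⊗ₜ[A] (1 : B) = (1 : B) ⊗ₜ σ := by
    refine eq_of_pow_prime hp ?_ ?_
    · rw [← map_natCast (algebraMap A (B ⊗[A] B)), h0, map_zero]
    · rw [Algebra.TensorProduct.tmul_pow, Algebra.TensorProduct.tmul_pow, _root_.one_pow, h,
        Algebra.TensorProduct.tmul_one_eq_one_tmul]
  obtain ⟨r, hr⟩ := (Algebra.codRestrictEqLocusPushoutCocone.bijective_of_faithfullyFlat A B).2 ⟨σ, hE⟩
  exact ⟨r, congrArg Subtype.val hr⟩

variable {X X' : Scheme.{u}} [IsReduced X] {p : ℕ}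

theorem natCast_res_eq_zero (h0 : (p : (Γ(X, ⊤) : Type u)) = 0) (U : X.Opens) : (p : Γ(X, U)) = 0 := by
  rw [← map_natCast (X.presheaf.map (homOfLE (le_top : U ≤ ⊤)).op).hom, h0, map_zero]

theorem trivial_of_etale_trivial (f : X' ⟶ X) [IsFinite f] [Etale f] [Surjective f] (hp : p.Prime)
    (h0 : (p : (Γ(X, ⊤) : Type u)) = 0)
    (hroot : ∀ u : (Γ(X', ⊤) : Type u), IsUnit u → ∃ v : (Γ(X', ⊤) : Type u), v ^ p = u)
    {M : X.Modules} (hM : PicF.IsInvertible M) (e : CohB1.tensorPow M p ≅ Coh.structureModule X)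
    (ψ : (Scheme.Modules.pullback f).obj M ≅ Coh.structureModule X') :
    Nonempty (M ≅ Coh.structureModule X) := by
  let t : ∀ j : GenIdx M, Γ(X', f ⁻¹ᵁ j.1) := fun j => ψ.hom.app (f ⁻¹ᵁ j.1) (pullSec f (gg j))
  have htu : ∀ j, IsUnit (t j) := fun j => by
    have h2 : IsGen (Coh.structureModule X') (f ⁻¹ᵁ j.1) (t j) := isGen_map_iso ψ (isGen_pullSec f (isGen_gg j) hM)
    have h3 := (isGen_oneSec (f ⁻¹ᵁ j.1)).isUnit_coef h2
    rwa [(isGen_oneSec (f ⁻¹ᵁ j.1)).coef_eq le_rfl (r := t j)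
      (by rw [resM_self]; exact _root_.mul_one (t j : Γ(X', f ⁻¹ᵁ j.1)))] at h3
  have htc : ∀ {i j : GenIdx M} (h : i.1 ≤ j.1),
      PicLib.res (f.preimage_mono h) (t j) = f.app i.1 (twU h : Γ(X, i.1)) * t i := by
    intro i j h
    show resM (Coh.structureModule X') (f.preimage_mono h) (ψ.hom.app (f ⁻¹ᵁ j.1) (pullSec f (gg j))) = _
    rw [← app_resM, resM_pullSec f h, twU_spec h, pullSec_smul, Scheme.Modules.Hom.app_smul]
    rfl
  have hfc : ∀ {i j : GenIdx M} (h : i.1 ≤ j.1),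
      PicLib.res (f.preimage_mono h) (f.app j.1 (ff e j)) =
        f.app i.1 (twU h : Γ(X, i.1)) ^ p * f.app i.1 (ff e i) := by
    intro i j h
    rw [← map_pow, ← map_mul, ← ff_eq e h]
    exact (ConcreteCategory.congr_hom (f.naturality (homOfLE h).op) (ff e j)).symm
  have hfu : ∀ j : GenIdx M, IsUnit (f.app j.1 (ff e j)) := fun j => (isUnit_ff e j).map _
  let a : ∀ j : GenIdx M, Γ(X', f ⁻¹ᵁ j.1) := fun j => t j ^ p * ((hfu j).unit⁻¹ : (Γ(X', f ⁻¹ᵁ j.1))ˣ)
  have haj : ∀ j, a j * f.app j.1 (ff e j) = t j ^ p := fun j => by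
    show t j ^ p * _ * _ = _
    rw [mul_assoc, IsUnit.val_inv_mul, _root_.mul_one]
  have hac : ∀ {i j : GenIdx M} (h : i.1 ≤ j.1), PicLib.res (f.preimage_mono h) (a j) = a i := by
    intro i j h
    refine (hfu i).mul_right_cancel ?_
    refine (((twU h).isUnit.map (f.app i.1).hom).pow p).mul_left_cancel ?_
    rw [mul_left_comm, ← hfc h, ← map_mul, haj, haj, map_pow, htc h, mul_pow]
  have hcov : (⊤ : X'.Opens) ≤ iSup fun j : GenIdx M => f ⁻¹ᵁ j.1 := fun z _ => by
    obtain ⟨k, -, hk⟩ := genIdx_directed hM ⊤ (f z) trivial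
    exact Opens.mem_iSup.2 ⟨k, hk⟩
  obtain ⟨α, hα, -⟩ := TopCat.Sheaf.existsUnique_gluing' X'.sheaf (fun j : GenIdx M => f ⁻¹ᵁ j.1) ⊤
    (fun j => homOfLE le_top) hcov a fun i j => by
      refine TopCat.Sheaf.eq_of_locally_eq' X'.sheaf
        (fun k : {k : GenIdx M // k.1 ≤ i.1 ⊓ j.1} => f ⁻¹ᵁ k.1.1) _
        (fun k => homOfLE (le_inf (f.preimage_mono (k.2.trans inf_le_left)) (f.preimage_mono (k.2.trans inf_le_right))))
        (fun z hz => ?_) _ _ fun k => ?_
      · obtain ⟨k, hk, hzk⟩ := genIdx_directed hM (i.1 ⊓ j.1) (f z) hz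
        exact Opens.mem_iSup.2 ⟨⟨k, hk⟩, hzk⟩
      · show PicLib.res _ (PicLib.res _ (a i)) = PicLib.res _ (PicLib.res _ (a j))
        rw [PicLib.res_res, PicLib.res_res]
        exact (hac (k.2.trans inf_le_left)).trans (hac (k.2.trans inf_le_right)).symm
  have hαu : IsUnit α := by
    refine X'.toRingedSpace.isUnit_of_isUnit_germ ⊤ α fun z hz => ?_
    obtain ⟨k, hk⟩ := Opens.mem_iSup.1 (hcov hz)
    have h1 : IsUnit (a k) := ((htu k).pow p).mul (Units.isUnit _)
    have h2 := h1.map (X'.presheaf.germ (f ⁻¹ᵁ k.1) z hk).hom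
    rw [show a k = X'.presheaf.map (homOfLE (le_top : f ⁻¹ᵁ k.1 ≤ ⊤)).op α from (hα k).symm,
      TopCat.Presheaf.germ_res_apply] at h2
    exact h2
  obtain ⟨β, hβ⟩ := hroot α hαu
  have hβu : IsUnit β := (isUnit_pow_iff hp.ne_zero).1 (hβ ▸ hαu)
  have hex : ∀ j : GenIdx M, ∃ r : Γ(X, j.1), r ^ p = ff e j := by
    intro j
    let _ := (f.app j.1).hom.toAlgebra
    have hE : Algebra.Etale Γ(X, j.1) Γ(X', f ⁻¹ᵁ j.1) := by
      have h := HasRingHomProperty.appLE (P := @Etale) f inferInstance ⟨j.1, j.2.1⟩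
        ⟨f ⁻¹ᵁ j.1, j.2.1.preimage f⟩ le_rfl
      rw [← f.app_eq_appLE] at h
      exact h
    have : Module.FaithfullyFlat Γ(X, j.1) Γ(X', f ⁻¹ᵁ j.1) := by
      refine Module.FaithfullyFlat.of_comap_surjective fun P => ?_
      let x := j.2.1.fromSpec P
      have hx : x ∈ j.1 := by
        rw [← SetLike.mem_coe, ← j.2.1.range_fromSpec]; exact ⟨P, rfl⟩
      obtain ⟨z, hz⟩ := f.surjective x
      obtain ⟨Q, hQ⟩ : z ∈ Set.range (j.2.1.preimage f).fromSpec := by
        rw [(j.2.1.preimage f).range_fromSpec]; show f z ∈ j.1; rw [hz]; exact hx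
      refine ⟨Q, j.2.1.fromSpec.isOpenEmbedding.injective ?_⟩
      have h := congrArg (fun q : _ ⟶ X => q Q) (IsAffineOpen.SpecMap_appLE_fromSpec f j.2.1 (j.2.1.preimage f) le_rfl)
      simp only [Scheme.Hom.comp_apply, hQ, hz, ← f.app_eq_appLE] at h
      exact h
    obtain ⟨b, hb⟩ := hβu.map (PicLib.res (le_top : f ⁻¹ᵁ j.1 ≤ ⊤))
    obtain ⟨r, hr⟩ := mem_range_of_pow_mem (A := Γ(X, j.1)) (σ := t j * (b⁻¹ : (Γ(X', f ⁻¹ᵁ j.1))ˣ))
      (a := ff e j) hp (natCast_res_eq_zero h0 _) (by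
        rw [mul_pow, ← haj j, show a j = PicLib.res le_top α from (hα j).symm, ← hβ, map_pow, ← hb,
          mul_right_comm, ← mul_pow, Units.mul_inv, _root_.one_pow, _root_.one_mul]
        rfl)
    refine ⟨r, ?_⟩
    have hinj : Function.Injective (algebraMap Γ(X, j.1) Γ(X', f ⁻¹ᵁ j.1)) :=
      FaithfulSMul.algebraMap_injective _ _
    refine hinj ?_
    rw [map_pow, hr, mul_pow, ← haj j, show a j = PicLib.res le_top α from (hα j).symm, ← hβ, map_pow, ← hb,
      mul_right_comm, ← mul_pow, Units.mul_inv, _root_.one_pow, _root_.one_mul]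
    rfl
  choose r hr using hex
  refine iso_of_units M (fun i j : GenIdx M => i.1 ≤ j.1) (fun j => j.1) (fun h => h)
    (fun y => (genIdx_directed hM ⊤ y trivial).imp fun _ h => h.2) (fun i j y hi hj => ?_)
    gg isGen_gg r (fun j => (isUnit_pow_iff hp.ne_zero).1 (by rw [hr]; exact isUnit_ff e j))
    fun {i j} h => ⟨(twU h : Γ(X, i.1)), twU_spec h, eq_of_pow_prime hp (natCast_res_eq_zero h0 _) ?_⟩
  · obtain ⟨k, hk, hxk⟩ := genIdx_directed hM (i.1 ⊓ j.1) y ⟨hi, hj⟩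
    exact ⟨k, hk.trans inf_le_left, hk.trans inf_le_right, hxk⟩
  · rw [← map_pow, hr, mul_pow, hr, ff_eq e h]

end Groth.Agent.CycRoot27
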