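import Groth.Agent.CycRoot27.Props
import Groth.Agent.AmpleLib.Power
import Groth.Agent.AmpleLib.Twist2
import Groth.Agent.PicLib.PullbackGen

/-!
# The root cover of an invertible module with trivial power
-/

set_option autoImplicit false
set_option backward.isDefEq.respectTransparency.types false

universe u

open CategoryTheory CategoryTheory.Limits AlgebraicGeometry TopologicalSpace Opposite
open Groth.Agent.Coherent Groth.Agent.PicLib Groth.Agent.AmpleLib

namespace Groth.Agent.CycRoot27

variable {Y : Scheme.{u}}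

/-- An invertible module with generators and units transforming alike is trivial. -/
theorem iso_of_units (M : Y.Modules) {J : Type u} (r : J → J → Prop) (W : J → Y.Opens)
    (hle : ∀ {i j}, r i j → W i ≤ W j) (hW : ∀ y, ∃ j, y ∈ W j)
    (hdir : ∀ i j y, y ∈ W i → y ∈ W j → ∃ k, r k i ∧ r k j ∧ y ∈ W k)
    (s : ∀ j, Γ(M, W j)) (hs : ∀ j, IsGen M (W j) (s j)) (t : ∀ j, Γ(Y, W j)) (ht : ∀ j, IsUnit (t j))
    (hc : ∀ {i j} (h : r i j), ∃ c : Γ(Y, W i), resM M (hle h) (s j) = c • s i ∧ res (hle h) (t j) = c * t i) :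
    Nonempty (M ≅ Coh.structureModule Y) := by
  have hcov : iSup W = ⊤ := top_le_iff.1 fun y _ => Opens.mem_iSup.2 (hW y)
  let t' : ∀ j, Γ(Coh.structureModule Y, W j) := fun j => t j
  obtain ⟨φ, hφ⟩ := exists_hom_of_gen W hcov s hs t' fun i j Z hi hj c hc' => by
    refine sec_ext _ _ _ fun y hy => ?_
    obtain ⟨k, hki, hkj, hyk⟩ := hdir i j y (hi hy) (hj hy)
    obtain ⟨a, ha, ha'⟩ := hc hki
    obtain ⟨b, hb, hb'⟩ := hc hkj
    refine ⟨Z ⊓ W k, inf_le_left, ⟨hy, hyk⟩, ?_⟩
    have e1 : res (inf_le_right : Z ⊓ W k ≤ W k) a =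
        res inf_le_left c * res (inf_le_right : Z ⊓ W k ≤ W k) b := by
      have h := congrArg (resM M (inf_le_left : Z ⊓ W k ≤ Z)) hc'
      have ha2 := congrArg (resM M (inf_le_right : Z ⊓ W k ≤ W k)) ha
      have hb2 := congrArg (resM M (inf_le_right : Z ⊓ W k ≤ W k)) hb
      simp only [resM_resM, resM_smul] at h ha2 hb2
      rw [ha2, hb2, ← mul_smul] at h
      exact ((hs k) _ inf_le_right).1 h
    show res inf_le_left (res hi (t i)) = res (inf_le_left : Z ⊓ W k ≤ Z) (c * res hj (t j))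
    rw [map_mul, res_res, res_res, ← res_res (hle hki) inf_le_right, ← res_res (hle hkj) inf_le_right, ha', hb',
      map_mul, map_mul, e1, mul_assoc]
  have hgen : ∀ j, IsGen (Coh.structureModule Y) (W j) (φ.app (W j) (s j)) := by
    intro j
    obtain ⟨w, hw⟩ := ht j
    have e : φ.app (W j) (s j) = (w : Γ(Y, W j)) • oneSec (W j) := by
      rw [hφ, hw]
      exact (mul_one (t j)).symm
    rw [e]
    exact (isGen_oneSec (W j)).smul_unit w
  have := isIso_of_gens φ W hcov s hs hgen
  exact ⟨asIso φ⟩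

variable {X : Scheme.{u}} {L : X.Modules} (hL : PicF.IsInvertible L)

variable (L) in
/-- Affine opens with a generator. -/
def GenIdx : Type u := {V : X.Opens // IsAffineOpen V ∧ ∃ g, IsGen L V g}

/-- The chosen generator. -/
noncomputable def gg (j : GenIdx L) : Γ(L, j.1) := j.2.2.choose

theorem isGen_gg (j : GenIdx L) : IsGen L j.1 (gg j) := j.2.2.choose_spec

/-- The transition unit: `g_j = twU g_i`. -/
noncomputable def twU {i j : GenIdx L} (h : i.1 ≤ j.1) : (Γ(X, i.1))ˣ :=
  ((isGen_gg i).isUnit_coef ((isGen_gg j).restrict h)).unit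

theorem twU_spec {i j : GenIdx L} (h : i.1 ≤ j.1) :
    resM L h (gg j) = (twU h : Γ(X, i.1)) • gg i := by
  rw [twU, IsUnit.unit_spec]
  conv_rhs => arg 2; rw [← resM_self L le_rfl (gg i)]
  exact ((isGen_gg i).coef_spec le_rfl _).symm

include hL in
theorem genIdx_directed (U : X.Opens) (x : X) (hx : x ∈ U) : ∃ k : GenIdx L, k.1 ≤ U ∧ x ∈ k.1 := by
  obtain ⟨W, hxW, g, hg⟩ := exists_isGen hL x
  obtain ⟨V, hV, hxV, hVle⟩ := exists_isAffineOpen_mem_and_subset (U := U ⊓ W) ⟨hx, hxW⟩
  have hVW : V ≤ W := fun z hz => (hVle hz).2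
  exact ⟨⟨V, hV, _, hg.restrict hVW⟩, fun z hz => (hVle hz).1, hxV⟩

variable {d : ℕ} (e : CohB1.tensorPow L d ≅ Coh.structureModule X)

/-- `g_j^d` as a function. -/
noncomputable def ff (j : GenIdx L) : Γ(X, j.1) := e.hom.app j.1 (powSec (gg j) d)

theorem ff_eq {i j : GenIdx L} (h : i.1 ≤ j.1) :
    res h (ff e j) = (twU h : Γ(X, i.1)) ^ d * ff e i := by
  show resM (Coh.structureModule X) h (e.hom.app j.1 (powSec (gg j) d)) = _
  rw [← app_resM, resM_powSec, twU_spec h, powSec_smul, Scheme.Modules.Hom.app_smul]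
  rfl

theorem isUnit_ff (j : GenIdx L) : IsUnit (ff e j) := by
  have h1 := isGen_powSec (isGen_gg j) d
  have h2 : IsGen (Coh.structureModule X) j.1 (e.hom.app j.1 (powSec (gg j) d)) := isGen_map_iso e h1
  have h3 := (isGen_oneSec j.1).isUnit_coef h2
  rwa [(isGen_oneSec j.1).coef_eq le_rfl (r := ff e j) (by rw [resM_self]; exact _root_.mul_one (ff e j : Γ(X, j.1)))] at h3

/-- The data of the root cover. -/
noncomputable def rootData : RootData X d where
  J := GenIdx L
  le i j := i.1 ≤ j.1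
  le_refl _ := le_rfl
  le_trans h h' := h.trans h'
  V j := j.1
  mono h := h
  affine j := j.2.1
  cover x := (genIdx_directed hL ⊤ x trivial).imp fun _ h => h.2
  directed i j x hi hj := by
    obtain ⟨k, hk, hxk⟩ := genIdx_directed hL (i.1 ⊓ j.1) x ⟨hi, hj⟩
    exact ⟨k, hk.trans inf_le_left, hk.trans inf_le_right, hxk⟩
  f := ff e
  tw h := twU h
  f_eq h := ff_eq e h
  tw_self i := by
    refine Units.ext ((isGen_gg i i.1 le_rfl).1 ?_)
    show (twU (le_refl i.1) : Γ(X, i.1)) • resM L le_rfl (gg i) = (1 : Γ(X, i.1)) • resM L le_rfl (gg i)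
    rw [resM_self, ← twU_spec, one_smul, resM_self]
  tw_trans {i j k} h h' := by
    refine (isGen_gg i i.1 le_rfl).1 ?_
    show (res h (twU h' : Γ(X, j.1)) * (twU h : Γ(X, i.1))) • resM L le_rfl (gg i) =
      (twU (h.trans h') : Γ(X, i.1)) • resM L le_rfl (gg i)
    rw [resM_self, ← twU_spec (h.trans h'), mul_smul, ← twU_spec h, ← resM_smul, ← twU_spec h', resM_resM]

/-- The root `t_j` over the preimage of a chart. -/
noncomputable def rootFun (j : GenIdx L) :
    Γ((rootData hL e).total, (rootData hL e).toBase ⁻¹ᵁ j.1) :=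
  ((rootData hL e).bijective_secHom j).2 ((rootData hL e).root j) |>.choose

theorem secHom_rootFun (j : GenIdx L) :
    (rootData hL e).secHom j (rootFun hL e j) = (rootData hL e).root j :=
  (((rootData hL e).bijective_secHom j).2 ((rootData hL e).root j)).choose_spec

theorem rootFun_res {i j : GenIdx L} (h : i.1 ≤ j.1) :
    res ((rootData hL e).toBase.preimage_mono h) (rootFun hL e j) =
      (rootData hL e).toBase.app i.1 (twU h : Γ(X, i.1)) * rootFun hL e i := by
  refine ((rootData hL e).bijective_secHom i).1 ?_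
  refine ((rootData hL e).secHom_natural (i := i) (j := j) h _).trans ?_
  erw [secHom_rootFun hL e j, map_mul, secHom_rootFun hL e i]
  refine Eq.trans (twist_root _ _ ((rootData hL e).f_eq (i := i) (j := j) h)) ?_
  exact congrArg (fun z => z * (rootData hL e).root i) ((rootData hL e).secHom_toBase_app i _).symm

include hL in
theorem isUnit_rootFun (hd : 0 < d) (j : GenIdx L) : IsUnit (rootFun hL e j) := by
  have h : IsUnit ((rootData hL e).secHom j (rootFun hL e j)) := by
    rw [secHom_rootFun]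
    refine (isUnit_pow_iff hd.ne').1 ?_
    show IsUnit (AdjoinRoot.root _ ^ d)
    rw [root_pow]
    exact (isUnit_ff e j).map _
  let E := (asIso ((rootData hL e).secHom j)).commRingCatIsoToRingEquiv
  have h' := h.map E.symm
  rwa [show E.symm ((rootData hL e).secHom j (rootFun hL e j)) = rootFun hL e j from E.symm_apply_apply _] at h'

include hL in
/-- `L` is trivial on the cover. -/
theorem pullback_trivial (hd : 0 < d) :
    Nonempty ((Scheme.Modules.pullback (rootData hL e).toBase).obj L ≅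
      Coh.structureModule (rootData hL e).total) := by
  let σ := (rootData hL e).toBase
  refine iso_of_units _ (fun i j : GenIdx L => i.1 ≤ j.1) (fun j => σ ⁻¹ᵁ j.1)
    (fun h => σ.preimage_mono h) (fun y => (genIdx_directed hL ⊤ (σ y) trivial).imp fun _ h => h.2)
    (fun i j y hi hj => ?_) (fun j => pullSec σ (gg j)) (fun j => isGen_pullSec σ (isGen_gg j) hL)
    (fun j => rootFun hL e j) (fun j => isUnit_rootFun hL e hd j)
    fun {i j} h => ⟨σ.app i.1 (twU h : Γ(X, i.1)), ?_, rootFun_res hL e h⟩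
  · obtain ⟨k, hk, hxk⟩ := genIdx_directed hL (i.1 ⊓ j.1) (σ y) ⟨hi, hj⟩
    exact ⟨k, hk.trans inf_le_left, hk.trans inf_le_right, hxk⟩
  · show resM _ (σ.preimage_mono (h : i.1 ≤ j.1)) _ = _
    rw [resM_pullSec σ (show i.1 ≤ j.1 from h), twU_spec (show i.1 ≤ j.1 from h), pullSec_smul]

end Groth.Agent.CycRoot27
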