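import Groth.Agent.CycRoot27.Glue
import Groth.Agent.S14457
import Groth.Prelude.Def_Mor2
import Mathlib.AlgebraicGeometry.Morphisms.Etale
import Mathlib.AlgebraicGeometry.Morphisms.FlatRank
import Mathlib.RingTheory.Finiteness.ModuleFinitePresentation

/-!
# Properties of the glued root cover
-/

set_option autoImplicit false
set_option backward.isDefEq.respectTransparency.types false

universe u

open Polynomial CategoryTheory CategoryTheory.Limits AlgebraicGeometry TopologicalSpace Opposite

namespace Groth.Agent.CycRoot27.RootData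

variable {X : Scheme.{u}} {d : ℕ} (D : RootData X d)

/-- The structure ring map of a chart. -/
noncomputable def ofHom (j : D.J) : CommRingCat.of Γ(X, D.V j) ⟶ D.B j :=
  CommRingCat.ofHom (algebraMap Γ(X, D.V j) (Bd d (D.f j)))

theorem chartMap_ι (j : D.J) : D.chartMap j ≫ (D.V j).ι = Spec.map (D.ofHom j) ≫ (D.affine j).fromSpec := by
  rw [chartMap, Category.assoc, IsAffineOpen.isoSpec_inv_ι]
  rfl

theorem isPullback_spec (j : D.J) :
    IsPullback (D.chart j) (Spec.map (D.ofHom j)) D.toBase (D.affine j).fromSpec := by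
  refine (D.isPullback_toBase j).flip.of_iso (Iso.refl _) (Iso.refl _) (D.affine j).isoSpec (Iso.refl _) ?_ ?_ ?_ ?_
  · simp
  · show D.chartMap j ≫ (D.affine j).isoSpec.hom = 𝟙 _ ≫ Spec.map (D.ofHom j)
    rw [chartMap, Category.assoc, Iso.inv_hom_id, Category.comp_id, Category.id_comp]
    rfl
  · simp
  · simp

theorem of_chart (P : MorphismProperty Scheme.{u}) [IsZariskiLocalAtTarget P]
    (h : ∀ j, P (Spec.map (D.ofHom j))) : P D.toBase := by
  refine IsZariskiLocalAtTarget.of_openCover D.cov fun j => ?_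
  have e := (D.isPullback_toBase j).flip
  show P (pullback.snd D.toBase (D.V j).ι)
  rw [show pullback.snd D.toBase (D.V j).ι = e.isoPullback.inv ≫ D.chartMap j from
    (e.isoPullback_inv_snd).symm, P.cancel_left_of_respectsIso]
  show P (Spec.map (D.ofHom j) ≫ (D.affine j).isoSpec.inv)
  rw [P.cancel_right_of_respectsIso]
  exact h j

variable (hd : 0 < d)

include hd in
theorem isFinLocFree_toBase : Mor2.IsFinLocFree D.toBase := by
  refine ⟨D.of_chart @IsFinite fun j => ?_, D.of_chart @Flat fun j => ?_,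
    D.of_chart @LocallyOfFinitePresentation fun j => ?_⟩
  all_goals obtain ⟨h1, h2⟩ := finite_free hd (D.f j)
  · rw [IsFinite.SpecMap_iff]
    exact RingHom.finite_algebraMap.2 h1
  · rw [Flat.SpecMap_iff]
    exact RingHom.flat_algebraMap_iff.2 inferInstance
  · rw [LocallyOfFinitePresentation.SpecMap_iff]
    exact RingHom.finitePresentation_algebraMap.2 inferInstance

include hd in
theorem finrank_toBase (y : X) : D.toBase.finrank y = d := by
  obtain ⟨h1, h2, h3⟩ := D.isFinLocFree_toBase hd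
  obtain ⟨j, hj⟩ := D.cover y
  obtain ⟨h4, h5⟩ := finite_free hd (D.f j)
  obtain ⟨z, hz⟩ : y ∈ Set.range (D.affine j).fromSpec := by rw [(D.affine j).range_fromSpec]; exact hj
  rw [← hz, ← Scheme.Hom.finrank_of_isPullback _ _ _ _ (D.isPullback_spec j) z]
  show (Spec.map (CommRingCat.ofHom (algebraMap Γ(X, D.V j) (Bd d (D.f j))))).finrank z = d
  rw [Scheme.Hom.finrank_SpecMap_algebraMap]
  have : Nontrivial Γ(X, D.V j) := by
    have : Nonempty (PrimeSpectrum Γ(X, D.V j)) := ⟨z⟩
    exact PrimeSpectrum.nonempty_iff_nontrivial.1 this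
  rw [Module.rankAtStalk_eq_finrank_of_free]
  exact rank_bd hd (D.f j)

include hd in
theorem isFinLocFreeOfDeg_toBase : Mor2.IsFinLocFreeOfDeg d D.toBase :=
  ⟨D.isFinLocFree_toBase hd, D.finrank_toBase hd⟩

include hd in
theorem surjective_toBase : Surjective D.toBase := by
  obtain ⟨h1, h2, h3⟩ := D.isFinLocFree_toBase hd
  exact (Scheme.Hom.one_le_finrank_iff_surjective D.toBase).1 fun y => (D.finrank_toBase hd y).symm ▸ hd

include hd in
theorem etale_toBase (h : ∀ j, IsUnit ((d : Γ(X, D.V j)) * D.f j)) : Etale D.toBase :=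
  D.of_chart @Etale fun j => by
    rw [HasRingHomProperty.Spec_iff (P := @Etale)]
    exact RingHom.etale_algebraMap.2 ((Groth.Agent.S14457.result _ _ d hd).2 (Or.inr (h j)))

theorem top_le_preimage_chart (j : D.J) :
    (⊤ : (Spec (D.B j)).Opens) ≤ D.chart j ⁻¹ᵁ (D.toBase ⁻¹ᵁ D.V j) := by
  intro x _
  show D.chart j x ∈ D.toBase ⁻¹ᵁ D.V j
  rw [preimage_toBase]
  exact ⟨x, rfl⟩

/-- Functions over the preimage of a chart. -/
noncomputable def secHom (j : D.J) : Γ(D.total, D.toBase ⁻¹ᵁ D.V j) ⟶ D.B j :=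
  (D.chart j).appLE (D.toBase ⁻¹ᵁ D.V j) ⊤ (D.top_le_preimage_chart j) ≫ (Scheme.ΓSpecIso _).hom

instance isIso_secHom (j : D.J) : IsIso (D.secHom j) := by
  have : D.chart j ⁻¹ᵁ (D.toBase ⁻¹ᵁ D.V j) = ⊤ := top_le_iff.1 (D.top_le_preimage_chart j)
  have h1 : IsIso ((D.chart j).app (D.toBase ⁻¹ᵁ D.V j)) :=
    (D.chart j).isIso_app _ (D.preimage_toBase j).le
  rw [secHom, Scheme.Hom.appLE]
  have : IsIso ((Spec (D.B j)).presheaf.map (homOfLE (D.top_le_preimage_chart j)).op) := by
    have : IsIso (homOfLE (D.top_le_preimage_chart j)) := ⟨homOfLE this.le, rfl, rfl⟩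
    infer_instance
  infer_instance

theorem bijective_secHom (j : D.J) : Function.Bijective (D.secHom j) :=
  ConcreteCategory.bijective_of_isIso (D.secHom j)

set_option backward.isDefEq.respectTransparency false in
theorem secHom_natural {i j : D.J} (h : i ≤ j) (x : Γ(D.total, D.toBase ⁻¹ᵁ D.V j)) :
    D.secHom i (resF (D.toBase.preimage_mono (D.mono h)) x) = D.res h (D.secHom j x) := by
  suffices hh : D.total.presheaf.map (homOfLE (D.toBase.preimage_mono (D.mono h))).op ≫ D.secHom i =
      D.secHom j ≫ D.res h from ConcreteCategory.congr_hom hh x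
  simp only [secHom, Category.assoc, ← Scheme.ΓSpecIso_naturality]
  simp only [← Category.assoc]
  congr 1
  simp only [Scheme.Hom.appTop, Scheme.Hom.appLE, Category.assoc]
  have h1 := (Scheme.Hom.comp_app (Spec.map (D.res h)) (D.chart j) (D.toBase ⁻¹ᵁ D.V j)).symm
  rw [Scheme.Hom.naturality_assoc, Scheme.Hom.naturality, reassoc_of% h1,
    Scheme.Hom.congr_app (D.chart_res h), Category.assoc, ← Functor.map_comp, ← Functor.map_comp]
  rfl

set_option backward.isDefEq.respectTransparency false in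
theorem secHom_toBase_app (j : D.J) (x : Γ(X, D.V j)) :
    D.secHom j (D.toBase.app (D.V j) x) = AdjoinRoot.of _ x := by
  suffices hh : D.toBase.app (D.V j) ≫ D.secHom j = D.ofHom j from ConcreteCategory.congr_hom hh x
  have h1 := Scheme.Hom.congr_app ((D.chart_toBase j).trans (D.chartMap_ι j)) (D.V j)
  have h2 := (Scheme.Hom.comp_app (D.chart j) D.toBase (D.V j)).symm
  have hk : ∀ k : (op ⊤ : (Spec (D.B j)).Opensᵒᵖ) ⟶ op ⊤,
      (Spec (D.B j)).presheaf.map k = 𝟙 _ := fun k => by
    rw [Subsingleton.elim k (𝟙 _)]; exact CategoryTheory.Functor.map_id _ _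
  simp only [secHom, Scheme.Hom.appLE]
  simp only [Category.assoc]
  rw [reassoc_of% h2, h1, Scheme.Hom.comp_app, (D.affine j).fromSpec_app_self]
  simp only [Category.assoc]
  rw [Scheme.Hom.naturality_assoc]
  simp only [← Functor.map_comp_assoc]
  erw [hk, Category.id_comp]
  rw [← cancel_epi (Scheme.ΓSpecIso Γ(X, D.V j)).hom, Iso.hom_inv_id_assoc]
  erw [Scheme.ΓSpecIso_naturality]
  rfl

end Groth.Agent.CycRoot27.RootData
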