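import Mathlib.RingTheory.AdjoinRoot
import Mathlib.RingTheory.Flat.Basic
import Mathlib.RingTheory.FinitePresentation
import Mathlib.Algebra.Category.Ring.Constructions

/-!
# The rings `R[t]/(t^d - f)` and their change along unit twists
-/

set_option autoImplicit false
set_option backward.isDefEq.respectTransparency.types false

universe u

open Polynomial CategoryTheory CategoryTheory.Limits

namespace Groth.Agent.CycRoot27

/-- `R[t]/(t^d - f)`. -/
abbrev Bd {R : Type u} [CommRing R] (d : ℕ) (f : R) : Type u := AdjoinRoot ((X : R[X]) ^ d - C f)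

variable {R R' R'' : Type u} [CommRing R] [CommRing R'] [CommRing R''] {d : ℕ}

theorem root_pow (f : R) :
    AdjoinRoot.root ((X : R[X]) ^ d - C f) ^ d = AdjoinRoot.of _ f := by
  have h := AdjoinRoot.eval₂_root ((X : R[X]) ^ d - C f)
  rw [eval₂_sub, eval₂_X_pow, eval₂_C, sub_eq_zero] at h
  exact h

theorem cond {f : R} {f' : R'} (φ : R →+* R') {u : R'} (h : φ f = u ^ d * f') :
    ((X : R[X]) ^ d - C f).eval₂ ((AdjoinRoot.of ((X : R'[X]) ^ d - C f')).comp φ)
      (AdjoinRoot.of _ u * AdjoinRoot.root _) = 0 := by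
  rw [eval₂_sub, eval₂_X_pow, eval₂_C, mul_pow, root_pow, sub_eq_zero, RingHom.comp_apply, h,
    map_mul, map_pow]

/-- The map `t ↦ u t'`. -/
noncomputable def twist {f : R} {f' : R'} (φ : R →+* R') (u : R') (h : φ f = u ^ d * f') :
    Bd d f →+* Bd d f' :=
  AdjoinRoot.lift ((AdjoinRoot.of ((X : R'[X]) ^ d - C f')).comp φ) (AdjoinRoot.of _ u * AdjoinRoot.root _)
    (cond φ h)

variable {f : R} {f' : R'} {f'' : R''}

@[simp]
theorem twist_of (φ : R →+* R') (u : R') (h : φ f = u ^ d * f') (x : R) :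
    twist φ u h (AdjoinRoot.of _ x) = AdjoinRoot.of _ (φ x) :=
  AdjoinRoot.lift_of _

@[simp]
theorem twist_root (φ : R →+* R') (u : R') (h : φ f = u ^ d * f') :
    twist φ u h (AdjoinRoot.root _) = AdjoinRoot.of _ u * AdjoinRoot.root _ :=
  AdjoinRoot.lift_root _

theorem hom_ext {S : Type u} [CommRing S] {g g' : Bd d f →+* S}
    (hof : ∀ x, g (AdjoinRoot.of _ x) = g' (AdjoinRoot.of _ x))
    (hroot : g (AdjoinRoot.root _) = g' (AdjoinRoot.root _)) : g = g' := by
  ext x
  · exact hof x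
  · exact hroot

theorem twist_id (h : RingHom.id R f = (1 : R) ^ d * f) : twist (RingHom.id R) 1 h = RingHom.id (Bd d f) :=
  hom_ext (fun x => twist_of _ _ _ x) (by rw [twist_root, map_one, one_mul]; rfl)

theorem twist_comp (φ : R →+* R') (u : R') (h : φ f = u ^ d * f') (ψ : R' →+* R'') (v : R'')
    (h' : ψ f' = v ^ d * f'') (χ : R →+* R'') (w : R'') (h'' : χ f = w ^ d * f'')
    (hχ : ψ.comp φ = χ) (hw : ψ u * v = w) :
    (twist ψ v h').comp (twist φ u h) = twist χ w h'' := by
  subst hχ hw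
  refine hom_ext (fun x => ?_) ?_
  · simp
  · simp [mul_assoc]

/-- Twisting by a unit over a change of rings is a push-out. -/
theorem isPushout_twist (φ : R →+* R') (u : R'ˣ) (h : φ f = (u : R') ^ d * f') :
    IsPushout (CommRingCat.ofHom φ) (CommRingCat.ofHom (AdjoinRoot.of ((X : R[X]) ^ d - C f)))
      (CommRingCat.ofHom (AdjoinRoot.of ((X : R'[X]) ^ d - C f')))
      (CommRingCat.ofHom (twist φ (u : R') h)) := by
  have w : CommRingCat.ofHom φ ≫ CommRingCat.ofHom (AdjoinRoot.of ((X : R'[X]) ^ d - C f')) =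
      CommRingCat.ofHom (AdjoinRoot.of ((X : R[X]) ^ d - C f)) ≫ CommRingCat.ofHom (twist φ (u : R') h) := by
    ext x
    exact (twist_of φ _ h x).symm
  have cnd : ∀ s : PushoutCocone (CommRingCat.ofHom φ) (CommRingCat.ofHom (AdjoinRoot.of ((X : R[X]) ^ d - C f))),
      ((X : R'[X]) ^ d - C f').eval₂ s.inl.hom (s.inl.hom (↑u⁻¹ : R') * s.inr.hom (AdjoinRoot.root _)) = 0 := by
    intro s
    have hs : ∀ x : R, s.inl.hom (φ x) = s.inr.hom (AdjoinRoot.of _ x) := fun x =>
      ConcreteCategory.congr_hom s.condition x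
    rw [eval₂_sub, eval₂_X_pow, eval₂_C, mul_pow, ← map_pow (CommRingCat.Hom.hom s.inr) (AdjoinRoot.root _),
      root_pow, ← hs, h, ← map_pow, ← map_mul, sub_eq_zero, ← mul_assoc, ← mul_pow, Units.inv_mul, one_pow, one_mul]
  refine IsPushout.of_isColimit' ⟨w⟩ (PushoutCocone.IsColimit.mk _
    (fun s => CommRingCat.ofHom (AdjoinRoot.lift (f := (X : R'[X]) ^ d - C f') _ _ (cnd s))) ?_ ?_ ?_)
  · intro s
    ext x
    exact AdjoinRoot.lift_of (cnd s)
  · intro s
    refine CommRingCat.hom_ext (hom_ext (fun x => ?_) ?_)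
    · have hs : s.inl.hom (φ x) = s.inr.hom (AdjoinRoot.of _ x) := ConcreteCategory.congr_hom s.condition x
      simp [← hs]
    · show AdjoinRoot.lift _ _ (cnd s) (twist φ (u : R') h (AdjoinRoot.root _)) = _
      rw [twist_root, map_mul, AdjoinRoot.lift_of, AdjoinRoot.lift_root, ← mul_assoc, ← map_mul, Units.mul_inv,
        map_one, one_mul]
  · intro s m hm₁ hm₂
    refine CommRingCat.hom_ext (hom_ext (fun x => ?_) ?_)
    · have := ConcreteCategory.congr_hom hm₁ x
      simpa using this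
    · have h1 : m.hom (twist φ (u : R') h (AdjoinRoot.root _)) = s.inr.hom (AdjoinRoot.root _) :=
        ConcreteCategory.congr_hom hm₂ _
      have h2 : ∀ x, m.hom (AdjoinRoot.of _ x) = s.inl.hom x := fun x => ConcreteCategory.congr_hom hm₁ x
      rw [twist_root, map_mul, h2] at h1
      show m.hom _ = AdjoinRoot.lift _ _ (cnd s) (AdjoinRoot.root _)
      rw [AdjoinRoot.lift_root, ← h1, ← mul_assoc, ← map_mul, Units.inv_mul, map_one, one_mul]

theorem finite_free (hd : 0 < d) (f : R) :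
    Module.Finite R (Bd d f) ∧ Module.Free R (Bd d f) :=
  ⟨(monic_X_pow_sub_C f hd.ne').finite_adjoinRoot, (monic_X_pow_sub_C f hd.ne').free_adjoinRoot⟩

theorem rank_bd [Nontrivial R] (hd : 0 < d) (f : R) :
    Module.finrank R (Bd d f) = d := by
  rw [(AdjoinRoot.powerBasis' (monic_X_pow_sub_C f hd.ne')).finrank, AdjoinRoot.powerBasis'_dim]
  exact natDegree_X_pow_sub_C

/-- Every element is uniquely `∑ e i t^i`. -/
theorem exists_coeff [Nontrivial R] (hd : 0 < d) (f : R) (x : Bd d f) :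
    ∃! e : Fin d → R, ∑ i, AdjoinRoot.of _ (e i) * AdjoinRoot.root _ ^ (i : ℕ) = x := by
  let pb := AdjoinRoot.powerBasis' (monic_X_pow_sub_C f hd.ne')
  have hdim : pb.dim = d := by
    simp only [pb, AdjoinRoot.powerBasis'_dim]
    exact natDegree_X_pow_sub_C
  let b := pb.basis.reindex (finCongr hdim)
  have hb : ∀ i : Fin d, b i = AdjoinRoot.root _ ^ (i : ℕ) := fun i => by
    simp [b, pb.basis_eq_pow, pb, AdjoinRoot.powerBasis'_gen]
  have hsum : ∀ e : Fin d → R, b.equivFun.symm e =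
      ∑ i, AdjoinRoot.of _ (e i) * AdjoinRoot.root ((X : R[X]) ^ d - C f) ^ (i : ℕ) := fun e => by
    rw [Module.Basis.equivFun_symm_apply]
    exact Finset.sum_congr rfl fun i _ => by rw [hb, Algebra.smul_def, AdjoinRoot.algebraMap_eq]
  exact ⟨b.equivFun x, (hsum _).symm.trans (b.equivFun.symm_apply_apply x), fun e he => by
    rw [← he, ← hsum, LinearEquiv.apply_symm_apply]⟩

end Groth.Agent.CycRoot27
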